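import Cfsg.Agent.AltCent.Fixed
import Cfsg.Agent.AltCent.FiveS.Data

/-! # FiveS: the vector fixed modulo the relations (generated certificate data) -/

set_option autoImplicit false
set_option maxRecDepth 100000
set_option maxHeartbeats 4000000

namespace CfsgLib.AltCent.FiveS

def code_a : ℕ := 375919743540

def word_a : List ℕ := [320, 1073, 1941, 2439]

def img_a : List (ℕ × ℕ) := [(11, 49), (5, 93), (9, 92), (30, 51), (23, 98), (26, 94), (27, 96)]

def comb_a : List (ℕ × ℕ × ℕ × List (ℕ × ℕ)) :=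
  [(654301213200, 0, 1, [(5, 0), (9, 0), (11, 0), (16, 0), (19, 0)]),
   (654537142800, 0, 3, [(13, 0), (18, 0), (21, 0), (25, 0), (29, 0)]),
   (384240464400, 0, 2, [(23, 0), (27, 0), (31, 0), (33, 0), (35, 0)]),
   (452990349345, 0, 1, [(30, 0), (32, 0), (14, 0), (34, 12), (26, 12)]),
   (452990091570, 0, 1, [(34, 0), (22, 3), (14, 1), (32, 5), (30, 7)]),
   (654300954930, 0, 4, [(19, 0), (5, 3), (2, 1), (16, 5), (11, 7)]),
   (654536884530, 0, 1, [(29, 0), (13, 3), (7, 1), (25, 5), (21, 7)]),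
   (384240206130, 0, 2, [(35, 0), (23, 3), (15, 1), (33, 5), (31, 7)]),
   (654820258320, 1, 3, [(2, 0), (6, 0), (7, 0), (14, 0), (15, 0)]),
   (654301213200, 1, 3, [(7, 0), (14, 0), (0, 0), (15, 14), (6, 14)]),
   (384004534800, 1, 2, [(15, 0), (2, 4), (0, 2), (14, 9), (7, 11)]),
   (654820257825, 1, 1, [(5, 0), (12, 0), (13, 0), (22, 0), (23, 0)]),
   (654301212705, 1, 1, [(13, 0), (22, 0), (1, 0), (23, 14), (12, 14)]),
   (384004534305, 1, 4, [(23, 0), (5, 4), (1, 2), (22, 9), (13, 11)]),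
   (654820000050, 1, 4, [(9, 0), (17, 0), (18, 0), (26, 0), (27, 0)]),
   (654300954930, 1, 4, [(18, 0), (26, 0), (3, 0), (27, 14), (17, 14)]),
   (384004276530, 1, 1, [(27, 0), (9, 4), (3, 2), (26, 9), (18, 11)])]

def combWords_a : List (List ℕ) := [[1893], [1653], [2437], [528, 2438], [288, 1073, 2438], [288, 1073, 1893], [288, 1073, 1653], [288, 1073, 2437], [], [1893], [1653, 2438], [528], [528, 1893], [528, 1653, 2438], [288, 1073], [288, 1073, 1893], [288, 1073, 1653, 2438]]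

theorem mod_a_ok : (imgOK code_a base2 B base2.pts img_a && combOK 5 B [base0, base1] comb_a && wordsOK 10 comb_a combWords_a &&
    eqMod 5 (imgPairs 5 B base2.pts img_a) (base2.pts ++ combPairs 5 B [base0, base1] comb_a) [] [(0, 1), (1, 1), (2, 3), (3, 1), (5, 6), (6, 3), (7, 3), (9, 1), (11, 3), (12, 1), (13, 5), (14, 5), (15, 2), (16, 4), (17, 4), (18, 3), (19, 1), (21, 2), (22, 5), (23, 3), (25, 4), (26, 5), (27, 2), (29, 1), (30, 1), (31, 2), (32, 1), (33, 4), (34, 1), (35, 1)]) = true := by decide +kernel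

def code_b : ℕ := 452990218560

def word_b : List ℕ := [577, 2438]

def img_b : List (ℕ × ℕ) := [(2, 27), (19, 53), (5, 35), (15, 54), (10, 79), (23, 61), (1, 61)]

def comb_b : List (ℕ × ℕ × ℕ × List (ℕ × ℕ)) :=
  [(452990349840, 0, 4, [(22, 0), (26, 0), (30, 0), (32, 0), (34, 0)]),
   (654537142800, 0, 3, [(13, 0), (18, 0), (21, 0), (25, 0), (29, 0)]),
   (384240464400, 0, 2, [(23, 0), (27, 0), (31, 0), (33, 0), (35, 0)]),
   (654820257825, 0, 3, [(4, 0), (8, 0), (0, 0), (10, 12), (3, 12)]),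
   (452990349345, 0, 1, [(30, 0), (32, 0), (14, 0), (34, 12), (26, 12)]),
   (654301212705, 0, 2, [(11, 0), (16, 0), (2, 0), (19, 12), (9, 12)]),
   (654820000050, 0, 3, [(10, 0), (1, 3), (0, 1), (8, 5), (4, 7)]),
   (452990091570, 0, 2, [(34, 0), (22, 3), (14, 1), (32, 5), (30, 7)]),
   (654300954930, 0, 2, [(19, 0), (5, 3), (2, 1), (16, 5), (11, 7)]),
   (654536884530, 0, 1, [(29, 0), (13, 3), (7, 1), (25, 5), (21, 7)]),
   (384240206130, 0, 2, [(35, 0), (23, 3), (15, 1), (33, 5), (31, 7)]),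
   (654820258320, 1, 1, [(2, 0), (6, 0), (7, 0), (14, 0), (15, 0)]),
   (654301213200, 1, 1, [(7, 0), (14, 0), (0, 0), (15, 14), (6, 14)]),
   (384004534800, 1, 3, [(15, 0), (2, 4), (0, 2), (14, 9), (7, 11)]),
   (384004534305, 1, 2, [(23, 0), (5, 4), (1, 2), (22, 9), (13, 11)]),
   (384004276530, 1, 3, [(27, 0), (9, 4), (3, 2), (26, 9), (18, 11)])]

def combWords_b : List (List ℕ) := [[2438], [1653], [2437], [528], [528, 2438], [528, 1893], [288, 1073], [288, 1073, 2438], [288, 1073, 1893], [288, 1073, 1653], [288, 1073, 2437], [], [1893], [1653, 2438], [528, 1653, 2438], [288, 1073, 1653, 2438]]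

theorem mod_b_ok : (imgOK code_b base2 B base2.pts img_b && combOK 5 B [base0, base1] comb_b && wordsOK 10 comb_b combWords_b &&
    eqMod 5 (imgPairs 5 B base2.pts img_b) (base2.pts ++ combPairs 5 B [base0, base1] comb_b) [] [(0, 2), (1, 2), (2, 3), (3, 3), (4, 3), (5, 3), (6, 1), (7, 3), (8, 3), (9, 4), (10, 1), (11, 2), (13, 3), (14, 4), (15, 1), (16, 2), (18, 3), (21, 2), (22, 4), (23, 2), (25, 4), (26, 4), (27, 1), (29, 1), (30, 3), (31, 2), (32, 5), (33, 4), (34, 2), (35, 1)]) = true := by decide +kernel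

theorem pair_ok : pairOK 10 word_a word_b code_a code_b = true := by decide +kernel

theorem common_ok : (base0.tbl = base2.tbl ∧ base1.tbl = base2.tbl) := ⟨rfl, rfl⟩

end CfsgLib.AltCent.FiveS
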